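import Groth.Agent.EmbLib24.Coord
import Groth.Agent.PicPn22.Pic
import Groth.Agent.FlatMorLocalStr.Chart

/-!
# The standard charts of projective space as polynomial rings
-/

set_option autoImplicit false
set_option linter.style.haveILetI false
set_option backward.isDefEq.respectTransparency.types false

universe u

open CategoryTheory AlgebraicGeometry Opposite TopologicalSpace HomogeneousLocalization
open Groth.Agent.EmbLib24

namespace Groth.Agent.PnCanon5

variable (n : ℕ) (k : Type u) [CommRing k] (i : Fin (n + 1))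

/-- `k[t_1, …, t_n] → (k[X_0, …, X_n]_{X_i})₀`. -/
noncomputable def sigma :
    MvPolynomial (Fin n) k →+* Away (CohB1.polyGrading n k) (MvPolynomial.X i : MvPolynomial (Fin (n + 1)) k) :=
  MvPolynomial.eval₂Hom (awayConst n k i) fun m => coordFrac n k i (i.succAbove m)

/-- Substitution `X_i = 1`. -/
noncomputable def sub1 : MvPolynomial (Fin (n + 1)) k →+* MvPolynomial (Fin n) k :=
  MvPolynomial.eval₂Hom MvPolynomial.C
    (Fin.insertNth (α := fun _ => MvPolynomial (Fin n) k) i 1 MvPolynomial.X)

theorem sub1_X_self : sub1 n k i (MvPolynomial.X i) = 1 := by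
  simp [sub1]

theorem isUnit_sub1 : IsUnit (sub1 n k i (MvPolynomial.X i)) := by rw [sub1_X_self]; exact isUnit_one

/-- The inverse of `sigma`. -/
noncomputable def tau :
    Away (CohB1.polyGrading n k) (MvPolynomial.X i : MvPolynomial (Fin (n + 1)) k) →+* MvPolynomial (Fin n) k :=
  (IsLocalization.Away.lift (S := Localization.Away (MvPolynomial.X i : MvPolynomial (Fin (n + 1)) k))
      (MvPolynomial.X i : MvPolynomial (Fin (n + 1)) k) (g := sub1 n k i)
      (isUnit_sub1 n k i)).comp
    (algebraMap (Away (CohB1.polyGrading n k) (MvPolynomial.X i))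
      (Localization.Away (MvPolynomial.X i : MvPolynomial (Fin (n + 1)) k)))

theorem tau_awayConst (c : k) : tau n k i (awayConst n k i c) = MvPolynomial.C c := by
  rw [tau, RingHom.comp_apply, HomogeneousLocalization.algebraMap_apply,
    show (awayConst n k i c).val = _ from ProjLib.val_toAway n k _ c, IsLocalization.Away.lift_eq]
  simp [sub1]

theorem tau_coordFrac (l : Fin (n + 1)) :
    tau n k i (coordFrac n k i l) = sub1 n k i (MvPolynomial.X l) := by
  let Xi : MvPolynomial (Fin (n + 1)) k := MvPolynomial.X i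
  have h1 : algebraMap (Away (CohB1.polyGrading n k) Xi) (Localization.Away Xi) (coordFrac n k i l) *
        algebraMap (MvPolynomial (Fin (n + 1)) k) (Localization.Away Xi) Xi =
      algebraMap (MvPolynomial (Fin (n + 1)) k) (Localization.Away Xi)
        (MvPolynomial.X l : MvPolynomial (Fin (n + 1)) k) := by
    rw [HomogeneousLocalization.algebraMap_apply, coordFrac, Away.val_mk, Localization.mk_eq_mk']
    have := IsLocalization.mk'_spec (Localization.Away Xi) (MvPolynomial.X l : MvPolynomial (Fin (n + 1)) k)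
      (⟨Xi ^ 1, 1, rfl⟩ : Submonoid.powers Xi)
    simp only [pow_one] at this ⊢
    exact this
  have h2 := congrArg (IsLocalization.Away.lift (S := Localization.Away Xi) Xi (g := sub1 n k i)
    (isUnit_sub1 n k i)) h1
  simp only [map_mul, IsLocalization.Away.lift_eq, Xi, sub1_X_self, mul_one] at h2
  exact h2

theorem bijective_sigma : Function.Bijective (sigma n k i) := by
  have h : ∀ p, tau n k i (sigma n k i p) = p := fun p =>
    RingHom.congr_fun (show (tau n k i).comp (sigma n k i) = RingHom.id _ from
      MvPolynomial.ringHom_ext (fun c => by simp [sigma, tau_awayConst])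
        (fun m => by simp [sigma, tau_coordFrac, sub1])) p
  have hl : coordFrac n k i i = 1 := HomogeneousLocalization.val_injective _ (by
    rw [coordFrac, Away.val_mk, HomogeneousLocalization.val_one]
    have : (⟨(MvPolynomial.X i : MvPolynomial (Fin (n + 1)) k) ^ 1, 1, rfl⟩ :
        Submonoid.powers (MvPolynomial.X i : MvPolynomial (Fin (n + 1)) k)).1 = MvPolynomial.X i := pow_one _
    exact (congrArg (fun a => Localization.mk a _) this.symm).trans (Localization.mk_self _))
  have h' : ∀ z, sigma n k i (tau n k i z) = z := fun z =>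
    RingHom.congr_fun (show (sigma n k i).comp (tau n k i) = RingHom.id _ from
      away_hom_ext n k i (fun c => by simp [sigma, tau_awayConst]) (fun l => by
        rcases Fin.eq_self_or_eq_succAbove i l with rfl | ⟨m, rfl⟩
        · simp [sigma, tau_coordFrac, sub1, hl]
        · simp [sigma, tau_coordFrac, sub1])) z
  exact ⟨fun a b hab => by rw [← h a, ← h b, hab], fun z => ⟨tau n k i z, h' z⟩⟩

/-- `k[t] ≅ Γ(D₊(X_i))`. -/
noncomputable def phi : MvPolynomial (Fin n) k →+* Γ(CohB1.ProjSpace n k, chart n k i) :=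
  (Proj.awayToSection (CohB1.polyGrading n k) (MvPolynomial.X i)).hom.comp (sigma n k i)

theorem bijective_phi : Function.Bijective (phi n k i) :=
  have : IsIso (Proj.awayToSection (CohB1.polyGrading n k) (MvPolynomial.X i)) := by
    rw [← Proj.basicOpenIsoAway_hom (CohB1.polyGrading n k) (MvPolynomial.X i)
      (MvPolynomial.isHomogeneous_X k i) one_pos]
    infer_instance
  (ConcreteCategory.bijective_of_isIso (Proj.awayToSection (CohB1.polyGrading n k) (MvPolynomial.X i))).comp
    (bijective_sigma n k i)

theorem phi_C (c : k) :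
    phi n k i (MvPolynomial.C c) = gl (CohB1.ProjSpace.toSpec n k) (chart n k i) c := by
  rw [← awayToSection_const]
  exact congrArg (Proj.awayToSection (CohB1.polyGrading n k) (MvPolynomial.X i))
    (MvPolynomial.eval₂Hom_C _ _ c)

theorem phi_X (m : Fin n) : phi n k i (MvPolynomial.X m) = coordFun n k i (i.succAbove m) := by
  exact congrArg (Proj.awayToSection (CohB1.polyGrading n k) (MvPolynomial.X i))
    (MvPolynomial.eval₂Hom_X' _ _ m)

theorem chart_le : chart n k i ≤ CohB1.ProjSpace.toSpec n k ⁻¹ᵁ ⊤ := le_top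

theorem appLE_eq_gl (a : Γ(Spec (CommRingCat.of k), ⊤)) :
    (CohB1.ProjSpace.toSpec n k).appLE ⊤ (chart n k i) (chart_le n k i) a =
      gl (CohB1.ProjSpace.toSpec n k) (chart n k i) ((Scheme.ΓSpecIso (CommRingCat.of k)).hom a) := by
  show _ = (CohB1.ProjSpace n k).presheaf.map _
    ((CohB1.ProjSpace.toSpec n k).appTop ((Scheme.ΓSpecIso (CommRingCat.of k)).inv
      ((Scheme.ΓSpecIso (CommRingCat.of k)).hom a)))
  rw [Iso.hom_inv_id_apply]
  rfl

/-- The chart as a polynomial algebra over the global functions of the base. -/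
theorem exists_algEquiv :
    letI := ((CohB1.ProjSpace.toSpec n k).appLE ⊤ (chart n k i) (chart_le n k i)).hom.toAlgebra
    ∃ g : MvPolynomial (Fin n) Γ(Spec (CommRingCat.of k), ⊤) ≃ₐ[Γ(Spec (CommRingCat.of k), ⊤)]
        Γ(CohB1.ProjSpace n k, chart n k i),
      ∀ m, g (MvPolynomial.X m) = coordFun n k i (i.succAbove m) := by
  letI := ((CohB1.ProjSpace.toSpec n k).appLE ⊤ (chart n k i) (chart_le n k i)).hom.toAlgebra
  let e : Γ(Spec (CommRingCat.of k), ⊤) ≃+* k :=
    (Scheme.ΓSpecIso (CommRingCat.of k)).commRingCatIsoToRingEquiv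
  let g : MvPolynomial (Fin n) Γ(Spec (CommRingCat.of k), ⊤) ≃+* Γ(CohB1.ProjSpace n k, chart n k i) :=
    (MvPolynomial.mapEquiv (Fin n) e).trans (RingEquiv.ofBijective (phi n k i) (bijective_phi n k i))
  refine ⟨AlgEquiv.ofRingEquiv (f := g) fun a => ?_, fun m => ?_⟩
  · show phi n k i (MvPolynomial.map (e : Γ(Spec (CommRingCat.of k), ⊤) →+* k) (MvPolynomial.C a)) = _
    rw [MvPolynomial.map_C, phi_C]
    exact (appLE_eq_gl n k i a).symm
  · show phi n k i (MvPolynomial.map (e : Γ(Spec (CommRingCat.of k), ⊤) →+* k) (MvPolynomial.X m)) = _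
    rw [MvPolynomial.map_X, phi_X]

theorem smoothOfRelativeDimension_toSpec :
    SmoothOfRelativeDimension n (CohB1.ProjSpace.toSpec n k) := by
  refine ⟨fun x => ?_⟩
  obtain ⟨i, hi⟩ := Opens.mem_iSup.1 ((ProjLib.iSup_basicOpen_X n k).ge (Opens.mem_top x))
  refine ⟨⊤, isAffineOpen_top _, chart n k i, isAffineOpen_chart n k i, hi, chart_le n k i, ?_⟩
  letI := ((CohB1.ProjSpace.toSpec n k).appLE ⊤ (chart n k i) (chart_le n k i)).hom.toAlgebra
  obtain ⟨g, -⟩ := exists_algEquiv n k i
  show Algebra.IsStandardSmoothOfRelativeDimension n _ _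
  haveI := FlatMorLocalStr.isStandardSmoothOfRelativeDimension_mvPolynomial Γ(Spec (CommRingCat.of k), ⊤) n
  exact .of_algEquiv n g

section Domain

variable [IsDomain k]

open Groth.Agent.PicPn22

theorem evS_coordFun {V : (CohB1.ProjSpace n k).Opens} (hV : V ≤ chart n k i) (h : eta n k ∈ V) (l : Fin (n + 1)) :
    evS n k V h ((CohB1.ProjSpace n k).presheaf.map (homOfLE hV).op (coordFun n k i l)) =
      xi n k l / xi n k i := by
  rw [evS_res]
  show iota n k (((Proj.awayToSection (CohB1.polyGrading n k) (MvPolynomial.X i)).hom (coordFrac n k i l)).1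
    ⟨eta n k, hV h⟩).val = _
  erw [AlgebraicGeometry.ProjectiveSpectrum.Proj.awayToSection_apply]
  rw [coordFrac, Away.val_mk, Localization.mk_eq_mk', IsLocalization.map_mk', ← Localization.mk_eq_mk',
    iota_mk]
  simp [xi]

theorem res_coordFun_eq (j l : Fin (n + 1)) :
    (CohB1.ProjSpace n k).presheaf.map (homOfLE (inf_le_left : chart n k i ⊓ chart n k j ≤ chart n k i)).op
        (coordFun n k i l) =
      (CohB1.ProjSpace n k).presheaf.map (homOfLE (inf_le_left : chart n k i ⊓ chart n k j ≤ chart n k i)).op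
          (coordFun n k i j) *
        (CohB1.ProjSpace n k).presheaf.map (homOfLE (inf_le_right : chart n k i ⊓ chart n k j ≤ chart n k j)).op
          (coordFun n k j l) := by
  refine evS_injective n k _ (eta_mem_inf n k i j) ?_
  rw [map_mul, evS_coordFun, evS_coordFun, evS_coordFun, mul_comm,
    div_mul_div_cancel₀ (xi_ne_zero n k j)]

theorem coordFun_self : coordFun n k i i = 1 := by
  have h := evS_coordFun n k i (V := chart n k i) le_rfl (eta_mem_D n k i) i
  rw [div_self (xi_ne_zero n k i), ← map_one (evS n k (chart n k i) (eta_mem_D n k i))] at h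
  have h' := evS_injective n k _ _ h
  rwa [show (homOfLE (le_refl (chart n k i))).op = 𝟙 _ from rfl,
    (CohB1.ProjSpace n k).presheaf.map_id] at h'

end Domain

end Groth.Agent.PnCanon5
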