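import Groth.Agent.PnCanon5.Dualizing
import Groth.Agent.SerreDual.TraceBijective
import Groth.Agent.SerreDual.CMDual
import Groth.Agent.SerreDual.ExtLocFree
import Groth.Agent.SerreDual.LocFreeCriterion
import Groth.Agent.EGA43.GeomIntegral.Dvr
import Groth.Agent.GenSmoothLib.TangentRank
import Groth.Agent.DimLib.Components
import Groth.Agent.VarietyLib.SmoothStalk
import Groth.Agent.Coherent.InternalHomAdj

/-!
# Top forms and Serre duality on smooth connected projective varieties
-/

set_option autoImplicit false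
set_option linter.style.haveILetI false
set_option backward.isDefEq.respectTransparency.types false
set_option maxHeartbeats 1600000

universe u

open CategoryTheory CategoryTheory.Abelian CategoryTheory.Limits AlgebraicGeometry
open Groth.Agent.Coherent Groth.Agent.PicLib Groth.Agent.SerreDual

namespace Groth.Agent.PnCanon5

variable {k : Type u} [Field k] {X : Scheme.{u}}

theorem isIntegral_of_smooth_connected (q : X ⟶ Spec (CommRingCat.of k)) [Smooth q] [ConnectedSpace X] :
    IsIntegral X := by
  haveI : IsLocallyNoetherian X := LocallyOfFiniteType.isLocallyNoetherian q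
  exact EGA43.GeomIntegral.isIntegral_of_isDomain_stalk fun x =>
    haveI := VarietyLib.isRegularLocalRing_stalk_of_smooth k X q x
    CAlgH3.isDomain_of_isRegularLocalRing _

theorem dim_eq_of_smooth (q : X ⟶ Spec (CommRingCat.of k)) (r : ℕ) [SmoothOfRelativeDimension r q]
    [Nonempty X] : topologicalKrullDim X = (r : WithBot ℕ∞) := by
  rw [Stk19b.FieldDim.topologicalKrullDim_eq_iSup_localDim, iSup_congr fun z =>
    Unram17Lib.localDim_of_smoothOfRelativeDimension k q r z, iSup_const]

theorem range_of_isIntegralElem [IsAlgClosed k] {K : Type u} [Field K] (f : k →+* K) (a : K)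
    (ha : f.IsIntegralElem a) : a ∈ Set.range f := by
  letI := f.toAlgebra
  have h : IsIntegral k a := ha
  exact minpoly.degree_eq_one_iff.1 (IsAlgClosed.degree_eq_one_of_irreducible k (minpoly.irreducible h))

variable (k) [IsAlgClosed k] (n r : ℕ) [X.Over (Spec (CommRingCat.of k))]
  [SmoothOfRelativeDimension n (X ↘ Spec (CommRingCat.of k))] [ConnectedSpace X]
  (ι : X ⟶ CohB1.ProjSpace r k) [IsClosedImmersion ι]
  (hι : ι ≫ CohB1.ProjSpace.toSpec r k = X ↘ Spec (CommRingCat.of k))
  (L : X.Modules) (hL : ExtPow.IsExtPow n (Omega.sheaf (X ↘ Spec (CommRingCat.of k))) L)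
include hι hL

theorem exists_trace_topForms :
    IsProper (X ↘ Spec (CommRingCat.of k)) ∧ PicF.IsInvertible L ∧
      ∃ t : Coh.HH X L n →ₗ[k] k, ∀ F : X.Modules, Coh.IsCoh F → SerreDual.Rep t F := by
  haveI := (isProper_and_ample_of_closedImmersion ι hι).1
  obtain ⟨t, ht⟩ := exists_trace k r n X ι hι (le_of_nonempty k r n X ι hι) L hL
  exact ⟨inferInstance, Canon15.isInvertible_of_isExtPow
    (Canon15.isFinLocFreeOfRank_omega (X ↘ Spec (CommRingCat.of k)) n) hL, t, ht⟩

theorem finrank_top : Module.finrank k (Coh.HH X L n) = 1 := by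
  haveI : Smooth (X ↘ Spec (CommRingCat.of k)) := SmoothOfRelativeDimension.smooth n _
  haveI := isIntegral_of_smooth_connected (X ↘ Spec (CommRingCat.of k))
  obtain ⟨hproper, hLi, t, ht⟩ := exists_trace_topForms k n r ι hι L hL
  haveI := hproper
  haveI := EulerLib.isNoetherian_of_proper (k := k) (X := X)
  obtain ⟨U, hU, ⟨s, hs⟩⟩ : ∃ U : X.Opens, genericPoint X ∈ U ∧ ∃ s : Γ(L, U), IsGen L U s := by
    obtain ⟨U, s, hy, hs⟩ := exists_cover hLi
    exact ⟨U _, hy _, s _, hs _⟩
  have hb := bijective_trace (dim_eq_of_smooth (X ↘ Spec (CommRingCat.of k)) n)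
    (fun a ha => range_of_isIntegralElem _ a ha)
    (CohBC.isCoh_of_isFinLocFree (SerreDual.isFinLocFree_of_invertible hLi)) t ht
    ⟨_, bijective_germ_gen hs hU⟩
  rw [(LinearEquiv.ofBijective t hb).finrank_eq, Module.finrank_self]

theorem nonempty_duality (F : X.Modules) (hF : FlatMod.IsFinLocFree F) [DCoh.HasSheafHom F] (p : ℕ)
    (hp : p ≤ n) :
    Nonempty (Module.Dual k (Coh.HH X F p) ≃ₗ[k] Coh.HH X ((DCoh.sheafHom F).obj L) (n - p)) := by
  haveI : Smooth (X ↘ Spec (CommRingCat.of k)) := SmoothOfRelativeDimension.smooth n _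
  haveI := isIntegral_of_smooth_connected (X ↘ Spec (CommRingCat.of k))
  obtain ⟨hproper, hLi, t, ht⟩ := exists_trace_topForms k n r ι hι L hL
  haveI := hproper
  obtain ⟨A, hA⟩ := (isProper_and_ample_of_closedImmersion ι hι).2
  haveI := EulerLib.isNoetherian_of_proper (k := k) (X := X)
  haveI : IsGrothendieckAbelian.{u} X.Modules := DCat.schemeModules_isGrothendieckAbelian X
  have hdim := dim_eq_of_smooth (X ↘ Spec (CommRingCat.of k)) n
  have hCM : ∀ x : X, IsClosed ({x} : Set X) →
      LocCoh.IsCohenMacaulayLocalRing (X.presheaf.stalk x) ∧ ringKrullDim (X.presheaf.stalk x) = n :=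
    fun x hx => ⟨haveI := VarietyLib.isRegularLocalRing_stalk_of_smooth k X (X ↘ Spec (CommRingCat.of k)) x
      CAlgH3.isCohenMacaulayLocalRing_of_regular _, by
      rw [GenSmoothLib.ringKrullDim_stalk_of_isClosed (X ↘ Spec (CommRingCat.of k)) x hx,
        ← DimLib.topologicalKrullDim_eq_ptDim_of_isGenericPoint (X ↘ Spec (CommRingCat.of k))
          (genericPoint_spec X), ← hdim]
      exact (Homeomorph.Set.univ X).isHomeomorph.topologicalKrullDim_eq _⟩
  obtain ⟨e⟩ := (SerreDual.duality_cm (k := k) hA hdim.le hCM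
    (CohBC.isCoh_of_isFinLocFree (SerreDual.isFinLocFree_of_invertible hLi)) t ht F
    (CohBC.isCoh_of_isFinLocFree hF) (n - p)).1 p (Nat.sub_add_cancel hp)
  exact ⟨e.symm.trans ((SerreDual.extLocFreeEquiv k hF L (n - p)).trans
    (SerreDual.hmapIso k ((Coherent.sheafHomIso F).symm.app L) (n - p)))⟩

end Groth.Agent.PnCanon5
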