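import Groth.Agent.PnCanon5.Alg
import Groth.Agent.PnCanon5.Chart
import Groth.Agent.Euler15.Iso
import Groth.Agent.FundLocal.SmoothImm
import Groth.Agent.Canon15.TopDiff
import Groth.Agent.CAlgH3.LocFreeFactor
import Groth.Agent.Coherent.Existence.InvertibleAlgebraize
import Groth.Agent.SerreDual.ExtShLocFree
import Groth.Agent.Frob15.TopForm

/-!
# The canonical sheaf of projective space over a domain
-/

set_option autoImplicit false
set_option linter.style.haveILetI false
set_option linter.unusedSectionVars false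
set_option backward.isDefEq.respectTransparency.types false
set_option backward.isDefEq.respectTransparency false
set_option maxHeartbeats 2000000

universe u

open CategoryTheory AlgebraicGeometry Opposite TopologicalSpace
open Groth.Agent.EmbLib24 Groth.Agent.PicLib Groth.Agent.Coherent Groth.Agent.PicPn22

namespace Groth.Agent.PnCanon5

variable (n : ℕ) (k : Type u) [CommRing k] [IsDomain k] [QuasiSeparated (CohB1.ProjSpace.toSpec n k)]

/-- The differentials of the coordinates of a chart form a basis. -/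
theorem exists_basis_omega (i : Fin (n + 1)) :
    ∃ b : Module.Basis (Fin n) Γ(CohB1.ProjSpace n k, chart n k i)
        Γ(Omega.sheaf (CohB1.ProjSpace.toSpec n k), chart n k i),
      ∀ m, b m = (OmegaSh.dOmega (CohB1.ProjSpace.toSpec n k)).app (chart n k i)
        (coordFun n k i (i.succAbove m)) := by
  letI := ((CohB1.ProjSpace.toSpec n k).appLE ⊤ (chart n k i) (chart_le n k i)).hom.toAlgebra
  obtain ⟨g, hg⟩ := exists_algEquiv n k i
  obtain ⟨ψ, hψ⟩ := OmegaLib.exists_sections_equiv
    (OmegaLib.isUniversal_dOmega (f := CohB1.ProjSpace.toSpec n k)) (chart_le n k i) (isAffineOpen_top _)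
    (isAffineOpen_chart n k i)
  let v : Fin n → Ω[Γ(CohB1.ProjSpace n k, chart n k i)⁄Γ(Spec (CommRingCat.of k), ⊤)] := fun m =>
    KaehlerDifferential.D _ _ (g (MvPolynomial.X m))
  have hv : LinearIndependent Γ(CohB1.ProjSpace n k, chart n k i) v :=
    Fintype.linearIndependent_iff.2 fun a ha => Euler15.eq_zero_of_sum_D_coord g a ha
  refine ⟨(Module.Basis.mk hv (Euler15.span_D_coord g).ge).map ψ, fun m => ?_⟩
  rw [Module.Basis.map_apply, Module.Basis.mk_apply]
  show ψ (KaehlerDifferential.D _ _ (g (MvPolynomial.X m))) = _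
  rw [hψ, hg]

variable {n k} {L : (CohB1.ProjSpace n k).Modules}

/-- `ω_{P^n} ≅ O(-n-1)`. -/
theorem nonempty_topDiff_twist (hL : ExtPow.IsExtPow n (Omega.sheaf (CohB1.ProjSpace.toSpec n k)) L) :
    Nonempty (L ≅ Twist.twistProjSpace n k (-((n : ℤ) + 1))) := by
  classical
  haveI := smoothOfRelativeDimension_toSpec n k
  haveI := CAlgH3.LocFreeFactor.isQCoh_of_finLocFree (SerreDual.isFinLocFree_of_invertible
    (Canon15.isInvertible_of_isExtPow
      (FundLocal.isFinLocFreeOfRank_omega_qs (CohB1.ProjSpace.toSpec n k) n) hL))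
  choose b hb using exists_basis_omega n k
  obtain ⟨φ, hφ⟩ := hL
  let C : Fin (n + 1) → (CohB1.ProjSpace n k).affineOpens := fun i => ⟨chart n k i, isAffineOpen_chart n k i⟩
  let ω : ∀ i, Γ(L, chart n k i) := fun i => (φ (C i)).symm (exteriorPower.ιMulti _ n (b i))
  have hω : ∀ i, IsGen L (chart n k i) (ω i) := fun i => by
    have hbij : Function.Bijective fun r : Γ(CohB1.ProjSpace n k, chart n k i) => r • ω i := by
      have key : (fun r : Γ(CohB1.ProjSpace n k, chart n k i) => r • ω i) =
          ⇑(φ (C i)).symm ∘ fun r : Γ(CohB1.ProjSpace n k, chart n k i) =>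
            r • exteriorPower.ιMulti Γ(CohB1.ProjSpace n k, chart n k i) n (b i) :=
        funext fun r => ((φ (C i)).symm.map_smul r _).symm
      rw [key]
      exact (φ (C i)).symm.bijective.comp (Frob15.bijective_smul_ιMulti (b i))
    have h := Coherent.Existence.isGen_basicOpen (N := L) (isAffineOpen_chart n k i)
      (g := (1 : Γ(CohB1.ProjSpace n k, chart n k i))) (n := ω i)
      (fun m => by obtain ⟨c, hc⟩ := hbij.2 m; exact ⟨c, by rw [one_smul]; exact hc.symm⟩)
      (fun r hr => by rw [one_mul]; exact hbij.1 (hr.trans (zero_smul _ _).symm))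
    refine isGen_of_cover (fun _ : PUnit.{u + 1} => (CohB1.ProjSpace n k).basicOpen
      (1 : Γ(CohB1.ProjSpace n k, chart n k i))) (fun _ => (CohB1.ProjSpace n k).basicOpen_le _) ?_ fun _ => h
    rw [Scheme.basicOpen_of_isUnit _ isUnit_one, iSup_const]
  let s : ∀ i, Γ(L, D n k i) := fun i =>
    (((-1 : Γ(CohB1.ProjSpace n k, chart n k i)ˣ) ^ (i : ℕ) : Γ(CohB1.ProjSpace n k, chart n k i)ˣ) :
      Γ(CohB1.ProjSpace n k, chart n k i)) • ω i
  have hs : ∀ i, IsGen L (D n k i) (s i) := fun i => (hω i).smul_unit _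
  have key : ∀ i j, resM L (inf_le_left : D n k i ⊓ D n k j ≤ D n k i) (s i) =
      ((CohB1.ProjSpace n k).presheaf.map
          (homOfLE (inf_le_left : D n k i ⊓ D n k j ≤ D n k i)).op (coordFun n k i j) :
          Γ(CohB1.ProjSpace n k, D n k i ⊓ D n k j)) ^ (n + 1) •
        resM L (inf_le_right : D n k i ⊓ D n k j ≤ D n k j) (s j) := fun i j => by
    have hW : IsAffineOpen (chart n k i ⊓ chart n k j) := by
      show IsAffineOpen (Proj.basicOpen (CohB1.polyGrading n k) (MvPolynomial.X i) ⊓
        Proj.basicOpen (CohB1.polyGrading n k) (MvPolynomial.X j))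
      rw [← Proj.basicOpen_mul]
      exact Proj.isAffineOpen_basicOpen _ _ (SetLike.mul_mem_graded (MvPolynomial.isHomogeneous_X k i)
        (MvPolynomial.isHomogeneous_X k j)) (by norm_num)
    let W : (CohB1.ProjSpace n k).affineOpens := ⟨chart n k i ⊓ chart n k j, hW⟩
    let δ := (OmegaSh.dOmega (CohB1.ProjSpace.toSpec n k)).app (chart n k i ⊓ chart n k j)
    let c : Γ(CohB1.ProjSpace n k, chart n k i ⊓ chart n k j) :=
      (CohB1.ProjSpace n k).presheaf.map (homOfLE inf_le_left).op (coordFun n k i j)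
    let T : Fin (n + 1) → Γ(CohB1.ProjSpace n k, chart n k i ⊓ chart n k j) := fun l =>
      (CohB1.ProjSpace n k).presheaf.map (homOfLE inf_le_right).op (coordFun n k j l)
    have hres : ∀ (l : Fin (n + 1)) (hl : (W : (CohB1.ProjSpace n k).Opens) ≤ chart n k l),
        resM L hl (ω l) = (φ W).symm (exteriorPower.ιMulti _ n fun m =>
          δ ((CohB1.ProjSpace n k).presheaf.map (homOfLE hl).op (coordFun n k l (l.succAbove m)))) := fun l hl =>
      (hφ (C l) W hl (b l)).trans (congrArg (fun e => (φ W).symm (exteriorPower.ιMulti _ n e))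
        (funext fun m => (congrArg _ (hb l m)).trans
          (OmegaLib.app_map (OmegaSh.dOmega (CohB1.ProjSpace.toSpec n k)) hl _).symm))
    have h1 : (fun m => δ ((CohB1.ProjSpace n k).presheaf.map
        (homOfLE (inf_le_left : chart n k i ⊓ chart n k j ≤ chart n k i)).op (coordFun n k i (i.succAbove m)))) =
        fun m => δ (c * T (i.succAbove m)) := funext fun m => congrArg δ (res_coordFun_eq n k i j _)
    have halg := wedge_D_change i j (exteriorPower.ιMulti Γ(CohB1.ProjSpace n k, chart n k i ⊓ chart n k j) n)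
      (fun a => δ a) (OmegaLib.app_one _ _) (OmegaLib.app_mul _ _) T c
      (by
        show (CohB1.ProjSpace n k).presheaf.map _ (coordFun n k j j) = 1
        rw [coordFun_self, map_one])
      (by rw [← res_coordFun_eq n k i j i, coordFun_self, map_one])
    have h2 : resM L (inf_le_left : chart n k i ⊓ chart n k j ≤ chart n k i) (ω i) =
        ((-1) ^ ((i : ℕ) + j) * c ^ (n + 1)) • resM L (inf_le_right : chart n k i ⊓ chart n k j ≤ chart n k j) (ω j) := by
      rw [hres i inf_le_left, hres j inf_le_right, h1]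
      refine (congrArg (φ W).symm halg).trans ?_
      exact map_smul (φ W).symm _ _
    show resM L _ (_ • ω i) = _ • resM L _ (_ • ω j)
    rw [resM_smul, resM_smul, h2, smul_smul, smul_smul]
    congr 1
    simp only [Units.val_pow_eq_pow_val, Units.val_neg, Units.val_one, map_pow, map_neg, map_one]
    show (-1) ^ (i : ℕ) * ((-1) ^ ((i : ℕ) + j) * c ^ (n + 1)) = c ^ (n + 1) * (-1) ^ (j : ℕ)
    rw [pow_add, ← mul_assoc, ← mul_assoc, ← pow_add, ← two_mul, pow_mul, neg_one_sq, one_pow, one_mul, mul_comm]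
  obtain ⟨t, ht⟩ := exists_frame_twist n k (-((n : ℤ) + 1))
  refine isIso_of_frames n k (d := -((n : ℤ) + 1)) (s := s) ⟨hs, fun i j a ha => ?_⟩ ht
  rw [((hs j) _ inf_le_right).1 (ha.symm.trans (key i j)), map_pow, evS_coordFun n k i _ _ j, mono_sub,
    mono_single, mono_single, zpow_neg, zpow_neg, ← zpow_natCast, div_zpow, inv_div_inv]
  push_cast
  rfl

end Groth.Agent.PnCanon5
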