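import Groth.Prelude.Def_Canon
import Groth.Agent.PnCanon5.Main
import Groth.Agent.FundLocal.TopForms
import Groth.Agent.SerreDual.ExtShRep
import Groth.Agent.Stk19b.FieldDim
import Groth.Agent.Unram17Lib.RelDim

/-!
# Top forms of a smooth closed subscheme of projective space are dualizing
-/

set_option autoImplicit false
set_option linter.style.haveILetI false
set_option backward.isDefEq.respectTransparency.types false
set_option maxHeartbeats 1600000

universe u

open CategoryTheory CategoryTheory.Limits AlgebraicGeometry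

namespace Groth.Agent.PnCanon5

/-- The dimension of a scheme smooth of relative dimension `r` over a field. -/
theorem dim_le_of_smooth {k : Type u} [Field k] {X : Scheme.{u}} (q : X ⟶ Spec (CommRingCat.of k)) (r : ℕ)
    [SmoothOfRelativeDimension r q] : topologicalKrullDim X ≤ (r : WithBot ℕ∞) := by
  rw [Stk19b.FieldDim.topologicalKrullDim_eq_iSup_localDim]
  exact iSup_le fun z => (Unram17Lib.localDim_of_smoothOfRelativeDimension k q r z).le

theorem exists_trace (k : Type u) [Field k] (n r : ℕ) (X : Scheme.{u}) [X.Over (Spec (CommRingCat.of k))]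
    (ι : X ⟶ CohB1.ProjSpace n k) [IsClosedImmersion ι]
    (hι : ι ≫ CohB1.ProjSpace.toSpec n k = X ↘ Spec (CommRingCat.of k))
    [SmoothOfRelativeDimension r (X ↘ Spec (CommRingCat.of k))] (hrn : r ≤ n)
    (Ω : X.Modules) (hΩ : ExtPow.IsExtPow r (Omega.sheaf (X ↘ Spec (CommRingCat.of k))) Ω) :
    ∃ t : Coh.HH X Ω r →ₗ[k] k, ∀ F : X.Modules, Coh.IsCoh F → SerreDual.Rep t F := by
  haveI := smoothOfRelativeDimension_toSpec n k
  haveI : Smooth (CohB1.ProjSpace.toSpec n k) := SmoothOfRelativeDimension.smooth n _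
  haveI := FundLocal.quasiSeparated_of_locallyNoetherian (CohB1.ProjSpace.toSpec n k)
  obtain ⟨ΩP, -, hΩP⟩ := ExtPowEx28.exists_isExtPow
    (LocFreeLib.isFinLocFree_of_rank (FundLocal.isFinLocFreeOfRank_omega_qs (CohB1.ProjSpace.toSpec n k) n)) n
  obtain ⟨w⟩ := nonempty_topDiff_twist hΩP
  haveI hres : HasInjectiveResolutions (CohB1.ProjSpace n k).Modules :=
    SerreDual.hasInjectiveResolutions_modules _
  let I := injectiveResolution (Twist.twistProjSpace n k (-((n : ℤ) + 1)))
  obtain ⟨e⟩ := FundLocal.nonempty_topForms_iso (CohB1.ProjSpace.toSpec n k) (X ↘ Spec (CommRingCat.of k)) ι hι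
    n r (ExtPowEx28.isExtPow_of_iso w hΩP) hΩ I
  exact SerreDual.exists_trace_extSh ι hι I hrn (dim_le_of_smooth (X ↘ Spec (CommRingCat.of k)) r) e

theorem le_of_nonempty (k : Type u) [Field k] (n r : ℕ) (X : Scheme.{u}) [Nonempty X] [X.Over (Spec (CommRingCat.of k))]
    (ι : X ⟶ CohB1.ProjSpace n k) [IsClosedImmersion ι]
    (hι : ι ≫ CohB1.ProjSpace.toSpec n k = X ↘ Spec (CommRingCat.of k))
    [SmoothOfRelativeDimension r (X ↘ Spec (CommRingCat.of k))] : r ≤ n := by
  haveI := smoothOfRelativeDimension_toSpec n k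
  haveI : Smooth (CohB1.ProjSpace.toSpec n k) := SmoothOfRelativeDimension.smooth n _
  haveI : Smooth (X ↘ Spec (CommRingCat.of k)) := SmoothOfRelativeDimension.smooth r _
  haveI := FundLocal.quasiSeparated_of_locallyNoetherian (CohB1.ProjSpace.toSpec n k)
  haveI := FundLocal.quasiSeparated_of_locallyNoetherian (X ↘ Spec (CommRingCat.of k))
  obtain ⟨-, hle, -⟩ := FundLocal.regular_of_smooth ι (CohB1.ProjSpace.toSpec n k) _ hι n r
  exact hle ‹_›

end Groth.Agent.PnCanon5
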