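import Mathlib.LinearAlgebra.Alternating.Basic
import Mathlib.GroupTheory.Perm.Fin

/-!
# Change of dehomogenised coordinates in a top wedge product
-/

set_option autoImplicit false

universe u v w

namespace Groth.Agent.PnCanon5

variable {A : Type u} [CommRing A] {N : Type v} [AddCommGroup N] [Module A N] {M : Type w} [AddCommGroup M]
  [Module A M]

/-- Adding multiples of one entry to the others does not change an alternating map. -/
theorem alt_add_smul {ι : Type*} [DecidableEq ι] (f : N [⋀^ι]→ₗ[A] M) (u : ι → N) (a : ι → A) (p : ι)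
    (ha : a p = 0) (s : Finset ι) : f (fun k => if k ∈ s then u k + a k • u p else u k) = f u := by
  induction s using Finset.induction with
  | empty => simp
  | @insert q s hq ih =>
    let v : ι → N := fun k => if k ∈ s then u k + a k • u p else u k
    have hup : (fun k => if k ∈ insert q s then u k + a k • u p else u k) =
        Function.update v q (v q + a q • v p) := funext fun k => by
      by_cases hk : k = q
      · subst hk
        simp [v, hq, ha]
      · simp [v, hk, Finset.mem_insert]
    rw [hup, AlternatingMap.map_update_add, AlternatingMap.map_update_smul, Function.update_eq_self]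
    by_cases hqp : q = p
    · subst hqp
      rw [ha, zero_smul, add_zero]
      exact ih
    · rw [AlternatingMap.map_update_self _ _ hqp, smul_zero, add_zero]
      exact ih

/-- The permutation relating the two ways to drop a coordinate, with its sign. -/
theorem exists_perm_swap_succAbove {n : ℕ} {i j : Fin (n + 1)} (hij : i ≠ j) :
    ∃ σ : Equiv.Perm (Fin n), (Equiv.Perm.sign σ : ℤ) = -(-1) ^ ((i : ℕ) + j) ∧
      ∀ m, Equiv.swap i j (i.succAbove m) = j.succAbove (σ m) := by
  let π : Equiv.Perm (Fin (n + 1)) := Fin.cycleRange j * Equiv.swap i j * (Fin.cycleRange i)⁻¹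
  have h0 : π 0 = 0 := by
    simp only [π, Equiv.Perm.mul_apply, Equiv.Perm.inv_def, Fin.cycleRange_symm_zero,
      Equiv.swap_apply_left, Fin.cycleRange_self]
  have hπ : Equiv.Perm.decomposeFin.symm (0, (Equiv.Perm.decomposeFin π).2) = π := by
    have h := Equiv.Perm.decomposeFin.symm_apply_apply π
    generalize Equiv.Perm.decomposeFin π = pe at h
    obtain ⟨p, e⟩ := pe
    have hp : p = 0 := by rw [← Equiv.Perm.decomposeFin_symm_apply_zero p e, h, h0]
    subst hp
    exact h
  refine ⟨(Equiv.Perm.decomposeFin π).2, ?_, fun m => ?_⟩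
  · have h := congrArg (fun s => (Equiv.Perm.sign s : ℤ)) hπ
    simp only [Equiv.Perm.decomposeFin.symm_sign, if_true, one_mul] at h
    rw [h]
    simp only [π, map_mul, map_inv, Fin.sign_cycleRange, Equiv.Perm.sign_swap hij, Int.units_inv_eq_self,
      Units.val_mul, Units.val_pow_eq_pow_val, Units.val_neg, Units.val_one, pow_add]
    ring
  · have h := congrArg (fun s : Equiv.Perm (Fin (n + 1)) => (Fin.cycleRange j).symm (s m.succ)) hπ
    simp only [Equiv.Perm.decomposeFin_symm_apply_succ, Equiv.swap_self, Equiv.refl_apply,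
      Fin.cycleRange_symm_succ] at h
    rw [h]
    simp only [π, Equiv.Perm.mul_apply, Equiv.Perm.inv_def, Fin.cycleRange_symm_succ, Equiv.symm_apply_apply]

/-- The wedge of the `y_k` (`k ≠ i`), for `y_k = c x_k + T_k (- c² x_i)`, in terms of that of the `x_k` (`k ≠ j`). -/
theorem wedge_change {n : ℕ} {i j : Fin (n + 1)} (hij : i ≠ j) (f : N [⋀^Fin n]→ₗ[A] M)
    (x y : Fin (n + 1) → N) (T : Fin (n + 1) → A) (c : A) (hTj : T j = 1) (hxj : x j = 0)
    (hy : ∀ k, y k = c • x k + T k • (-(c ^ 2) • x i)) :
    f (y ∘ i.succAbove) = ((-1) ^ ((i : ℕ) + j) * c ^ (n + 1) : A) • f (x ∘ j.succAbove) := by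
  classical
  obtain ⟨p, hp⟩ := Fin.exists_succAbove_eq hij.symm
  obtain ⟨σ, hσ, hσx⟩ := exists_perm_swap_succAbove hij
  let s : Fin n → A := fun m => if m = p then -(c ^ 2) else c
  let u : Fin n → N := fun m => s m • x (j.succAbove (σ m))
  let a : Fin n → A := fun m => if m = p then 0 else T (i.succAbove m)
  have hu : ∀ m, x (j.succAbove (σ m)) = if m = p then x i else x (i.succAbove m) := fun m => by
    rw [← hσx]
    by_cases hm : m = p
    · subst hm
      rw [if_pos rfl, hp, Equiv.swap_apply_right]
    · rw [if_neg hm, Equiv.swap_apply_of_ne_of_ne (Fin.succAbove_ne i m)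
        (fun h => hm (Fin.succAbove_right_injective (h.trans hp.symm)))]
  have hy' : y ∘ i.succAbove = fun m => if m ∈ Finset.univ then u m + a m • u p else u m :=
    funext fun m => by
      rw [Function.comp_apply, hy, if_pos (Finset.mem_univ m)]
      by_cases hm : m = p
      · subst hm
        simp [u, s, a, hu, hp, hxj, hTj]
      · simp [u, s, a, hu, hm]
  rw [hy', alt_add_smul f u a p (if_pos rfl), show u = fun m => s m • ((x ∘ j.succAbove) ∘ σ) m from rfl,
    AlternatingMap.map_smul_univ, AlternatingMap.map_perm, Units.smul_def, ← Int.cast_smul_eq_zsmul A,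
    smul_smul, hσ]
  congr 1
  obtain ⟨q, rfl⟩ : ∃ q, n = q + 1 := ⟨n - 1, by have := p.isLt; omega⟩
  rw [← Finset.mul_prod_erase Finset.univ s (Finset.mem_univ p), show s p = -(c ^ 2) from if_pos rfl,
    Finset.prod_congr rfl (fun m hm => show s m = c from if_neg (Finset.ne_of_mem_erase hm)),
    Finset.prod_const, Finset.card_erase_of_mem (Finset.mem_univ p), Finset.card_univ, Fintype.card_fin,
    Nat.add_sub_cancel]
  push_cast
  ring

/-- Passing from the coordinates `T` (with `T_j = 1`) to `c T` (with `c T_i = 1`). -/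
theorem wedge_D_change {n : ℕ} (i j : Fin (n + 1)) (f : N [⋀^Fin n]→ₗ[A] M) (D : A → N) (h1 : D 1 = 0)
    (hD : ∀ a b, D (a * b) = a • D b + b • D a) (T : Fin (n + 1) → A) (c : A) (hTj : T j = 1)
    (hc : c * T i = 1) :
    f (fun m => D (c * T (i.succAbove m))) =
      ((-1) ^ ((i : ℕ) + j) * c ^ (n + 1) : A) • f (fun m => D (T (j.succAbove m))) := by
  by_cases hij : i = j
  · subst hij
    rw [hTj, mul_one] at hc
    subst hc
    simp [← two_mul, pow_mul]
  have hdc : D c = -(c ^ 2) • D (T i) := by
    have h := congrArg (c • ·) ((hD c (T i)).symm.trans ((congrArg D hc).trans h1))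
    simp only [smul_add, smul_smul, hc, one_smul, smul_zero, ← sq] at h
    rw [neg_smul]
    exact eq_neg_of_add_eq_zero_right h
  exact wedge_change hij f (fun k => D (T k)) (fun k => D (c * T k)) T c hTj (by rw [hTj, h1])
    (fun k => by rw [hD, hdc])

end Groth.Agent.PnCanon5
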