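import Groth.Agent.PnCanon5.Duality

/-!
# Serre duality for coherent modules on smooth connected projective varieties
-/

set_option autoImplicit false
set_option linter.style.haveILetI false
set_option backward.isDefEq.respectTransparency.types false
set_option maxHeartbeats 1600000

universe u

open CategoryTheory CategoryTheory.Abelian CategoryTheory.Limits AlgebraicGeometry
open Groth.Agent.Coherent Groth.Agent.PicLib Groth.Agent.SerreDual

namespace Groth.Agent.PnCanon5

variable (k : Type u) [Field k] [IsAlgClosed k] {X : Scheme.{u}} (n r : ℕ) [X.Over (Spec (CommRingCat.of k))]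
  [SmoothOfRelativeDimension n (X ↘ Spec (CommRingCat.of k))] [ConnectedSpace X]
  (ι : X ⟶ CohB1.ProjSpace r k) [IsClosedImmersion ι]
  (hι : ι ≫ CohB1.ProjSpace.toSpec r k = X ↘ Spec (CommRingCat.of k))
  (L : X.Modules) (hL : ExtPow.IsExtPow n (Omega.sheaf (X ↘ Spec (CommRingCat.of k))) L)
include hι hL

/-- Serre duality `Ext^i(F, ω) ≅ H^(n-i)(F)^*`. -/
theorem nonempty_ext_duality [HasExt.{u} X.Modules] (F : X.Modules) (hF : Coh.IsCoh F) (i : ℕ) (hi : i ≤ n) :
    Nonempty (Ext F L i ≃ₗ[k] Module.Dual k (Coh.HH X F (n - i))) := by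
  haveI : Smooth (X ↘ Spec (CommRingCat.of k)) := SmoothOfRelativeDimension.smooth n _
  haveI := isIntegral_of_smooth_connected (X ↘ Spec (CommRingCat.of k))
  obtain ⟨hproper, hLi, t, ht⟩ := exists_trace_topForms k n r ι hι L hL
  haveI := hproper
  obtain ⟨A, hA⟩ := (isProper_and_ample_of_closedImmersion ι hι).2
  haveI := EulerLib.isNoetherian_of_proper (k := k) (X := X)
  haveI : IsGrothendieckAbelian.{u} X.Modules := DCat.schemeModules_isGrothendieckAbelian X
  have hdim := dim_eq_of_smooth (X ↘ Spec (CommRingCat.of k)) n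
  have hCM : ∀ x : X, IsClosed ({x} : Set X) →
      LocCoh.IsCohenMacaulayLocalRing (X.presheaf.stalk x) ∧ ringKrullDim (X.presheaf.stalk x) = n :=
    fun x hx => ⟨haveI := VarietyLib.isRegularLocalRing_stalk_of_smooth k X (X ↘ Spec (CommRingCat.of k)) x
      CAlgH3.isCohenMacaulayLocalRing_of_regular _, by
      rw [GenSmoothLib.ringKrullDim_stalk_of_isClosed (X ↘ Spec (CommRingCat.of k)) x hx,
        ← DimLib.topologicalKrullDim_eq_ptDim_of_isGenericPoint (X ↘ Spec (CommRingCat.of k))
          (genericPoint_spec X), ← hdim]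
      exact (Homeomorph.Set.univ X).isHomeomorph.topologicalKrullDim_eq _⟩
  exact (SerreDual.duality_cm (k := k) hA hdim.le hCM
    (CohBC.isCoh_of_isFinLocFree (SerreDual.isFinLocFree_of_invertible hLi)) t ht F hF i).1 (n - i)
      (Nat.add_sub_cancel' hi)

end Groth.Agent.PnCanon5
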